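import Cfsg.Agent.Lib.G2Iso.Hom
import Cfsg.Agent.Lib.Lie.ChevSimple
import Cfsg.Agent.S1059
import Cfsg.Agent.S2397
import Cfsg.Agent.Lib.SLPres.Main

/-! The isomorphism of the two models of `G₂(q)`, `q ≥ 3`. -/

set_option autoImplicit false

namespace Cfsg.Agent.G2Iso

open Matrix Cfsg.Lie Cfsg.Agent.G2Oct

variable {F : Type*} [Field F]

/-- For `G₂` the presented group is the Chevalley group. -/
theorem steinberg_equiv (K : Type*) [Field K] :
    Nonempty (chevG2.SteinbergGroup K ≃* ↥(chevG2.group K)) := by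
  obtain ⟨T, _, _, g, ⟨C, hk, hC⟩, hD⟩ := Chev.exists_goodW_one (D := chevG2) (by simp)
  rw [← hD]
  refine ⟨MulEquiv.ofBijective (Chev.Tab.θG g.toGoodA K) ⟨?_, Chev.Tab.θG_surjective _⟩⟩
  rw [← MonoidHom.ker_eq_bot_iff, Chev.Tab.θG_ker, Chev.Tab.ker_eq_center g,
    Chev.Tab.center_eq_bot g hC hk]

theorem card_sl3 [Fintype F] : Nat.card (Matrix.SpecialLinearGroup (Fin 3) F) =
    (Fintype.card F ^ 3 - 1) * Fintype.card F ^ 2 * ((Fintype.card F ^ 2 - 1) * Fintype.card F) := by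
  rw [SLPres.card_sl_succ 2, SLPres.card_sl_succ 1, Nat.card_eq_fintype_card (α := F)]
  have : Subsingleton (Matrix.SpecialLinearGroup (Fin 1) F) := ⟨fun A B => by
    refine Subtype.ext (Matrix.ext fun i j => ?_)
    rw [Subsingleton.elim i 0, Subsingleton.elim j 0]
    have hA := A.2; have hB := B.2
    rw [Matrix.det_fin_one] at hA hB
    rw [hA, hB]⟩
  rw [Nat.card_unique (α := Matrix.SpecialLinearGroup (Fin 1) F), pow_one, mul_one]

theorem card_G2_eq [Fintype F] : Nat.card (Lie.G2 F) =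
    Fintype.card F ^ 6 * (Fintype.card F ^ 2 - 1) * (Fintype.card F ^ 6 - 1) := by
  rw [card_G2, card_sl3]
  set q := Fintype.card F
  have h1 : 1 ≤ q ^ 3 := Nat.one_le_pow _ _ Fintype.card_pos
  have h2 : (q ^ 3 + 1) * (q ^ 3 - 1) = q ^ 6 - 1 := by
    rw [← Nat.sq_sub_sq, one_pow, ← pow_mul]
  calc _ = q ^ 6 * (q ^ 2 - 1) * ((q ^ 3 + 1) * (q ^ 3 - 1)) := by ring
    _ = _ := by rw [h2]

/-- The two models of `G₂(q)` agree for `q ≥ 3`. -/
theorem exists_iso [Fintype F] (hF : 3 ≤ Fintype.card F) :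
    Nonempty (↥(chevG2.group F) ≃* ↥(Lie.G2 F)) := by
  classical
  obtain ⟨a, ha0, ha1⟩ : ∃ a : F, a ≠ 0 ∧ a ≠ 1 := by
    by_contra h
    push Not at h
    have hsub : (Finset.univ : Finset F) ⊆ {0, 1} := fun x _ => by
      by_cases hx : x = 0 <;> simp [hx, h x]
    have := (Finset.card_le_card hsub).trans Finset.card_le_two
    rw [Finset.card_univ] at this
    omega
  obtain ⟨θ⟩ := steinberg_equiv F
  obtain ⟨e, -⟩ := Cfsg.Agent.S2397.result (K := F) chevG2 (by simp) (fun _ => ⟨a, ha0, ha1⟩)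
  let ψ : ↥(chevG2.group F) →* ↥(Lie.G2 F) :=
    ((rep F).codRestrict (Lie.G2 F) rep_mem).comp (θ.symm.trans e.symm).toMonoidHom
  have hsimp : IsSimpleGroup ↥(chevG2.group F) := by
    obtain ⟨T, g, hT, -⟩ := Chev.exists_goodS (D := chevG2) (by simp)
    rw [← hT]
    exact (Chev.Tab.group_simple g (Or.inr ⟨a, ha0, ha1⟩)).1
  have hne : ψ.ker ≠ ⊤ := by
    intro h
    have h1 : ψ (θ (e (chevG2.scGen F 6 1))) = 1 := MonoidHom.mem_ker.1 (by rw [h]; exact Subgroup.mem_top _)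
    simp only [ψ, MonoidHom.comp_apply, MulEquiv.coe_toMonoidHom, MulEquiv.trans_apply,
      MulEquiv.symm_apply_apply] at h1
    have h2 : gen (F := F) 6 1 = 1 := by
      have h4 := congrArg Subtype.val h1
      simp [MonoidHom.codRestrict, ChevalleyDatum.scGen, rep, ChevalleyDatum.stX,
        show 6 < chevG2.nroots from by decide] at h4
      rwa [show PresentedGroup.mk (chevG2.steinbergRelsAB F) (FreeGroup.of (⟨6, by decide⟩, 1)) = PresentedGroup.of (rels := chevG2.steinbergRelsAB F) (⟨6, by decide⟩, (1 : F)) from rfl, PresentedGroup.toGroup.of] at h4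
    have h3 := app_gen (F := F) (show 6 < 12 by norm_num) 1 (Pi.single 1 1) 2
    rw [h2, app_one] at h3
    simp [rAct, row, tab, ext8] at h3
  have hinj : Function.Injective ψ := by
    rw [← MonoidHom.ker_eq_bot_iff]
    exact (hsimp.eq_bot_or_eq_top_of_normal _ inferInstance).resolve_right hne
  have hcard : Nat.card ↥(chevG2.group F) = Nat.card ↥(Lie.G2 F) := by
    rw [Cfsg.Agent.S1059.result rfl, card_G2_eq]
  exact ⟨MulEquiv.ofBijective ψ (hinj.bijective_of_nat_card_le hcard.ge)⟩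

end Cfsg.Agent.G2Iso
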