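import Cfsg.Agent.Lib.G2Iso.Table
import Cfsg.Agent.Lib.G2Octonion.Order
import Cfsg.Agent.Lib.Lie.StMain
import Cfsg.Agent.Lib.Lie.CovMain

/-! The Chevalley group of type `G₂` and the automorphism group of Zorn's algebra. -/

set_option autoImplicit false

namespace Cfsg.Agent.G2Iso

open Matrix Cfsg.Lie Cfsg.Agent.G2Oct

variable {F : Type*} [Field F]

/-- Transvection in the special linear group. -/
def tr3 (i j : Fin 3) (h : i ≠ j) (t : F) : Matrix.SpecialLinearGroup (Fin 3) F :=
  ⟨Matrix.transvection i j t, Matrix.det_transvection_of_ne i j h t⟩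

/-- Short root element, first kind. -/
def sp (i : Fin 3) (t : F) : GL (Fin 8) F := (Orth.glEquiv (Fin 8) F).symm (phiEquiv (Pi.single i t))

/-- Short root element, second kind. -/
def sq (i : Fin 3) (t : F) : GL (Fin 8) F := (Orth.glEquiv (Fin 8) F).symm (psiEquiv (Pi.single i t))

/-- The root elements. -/
def gen : ℕ → F → GL (Fin 8) F
  | 0, t => slHom (tr3 2 1 (by decide) t)
  | 1, t => slHom (tr3 2 0 (by decide) t)
  | 2, t => sp 2 (-t)
  | 3, t => sq 1 (-t)
  | 4, t => sq 0 (-t)
  | 5, t => slHom (tr3 0 1 (by decide) t)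
  | 6, t => slHom (tr3 1 0 (by decide) t)
  | 7, t => sp 0 (-t)
  | 8, t => sp 1 (-t)
  | 9, t => sq 2 (-t)
  | 10, t => slHom (tr3 0 2 (by decide) t)
  | 11, t => slHom (tr3 1 2 (by decide) t)
  | _, _ => 1

theorem gen_mem : ∀ (r : ℕ) (t : F), gen r t ∈ Lie.G2 F
  | 0, _ => slHom_mem _
  | 1, _ => slHom_mem _
  | 2, _ => symm_mem (phi_mul _)
  | 3, _ => symm_mem (psi_mul _)
  | 4, _ => symm_mem (psi_mul _)
  | 5, _ => slHom_mem _
  | 6, _ => slHom_mem _
  | 7, _ => symm_mem (phi_mul _)
  | 8, _ => symm_mem (phi_mul _)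
  | 9, _ => symm_mem (psi_mul _)
  | 10, _ => slHom_mem _
  | 11, _ => slHom_mem _
  | _ + 12, _ => one_mem _

/-- A vector as a function on the natural numbers. -/
def ext8 (x : Fin 8 → F) (k : ℕ) : F := if h : k < 8 then x ⟨k, h⟩ else 0

theorem app_gen {r : ℕ} (hr : r < 12) (t : F) (x : Fin 8 → F) (i : Fin 8) :
    app (gen r t) x i = rAct r t (ext8 x) i := by
  interval_cases r <;> simp only [gen, sp, sq, app_slHom, app_symm] <;> fin_cases i <;>
    simp [slFun, tr3, phiEquiv, psiEquiv, phiFun, psiFun, mk, dot3, cross3, cof, Matrix.transvection,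
      Matrix.single, mulVec, dotProduct, Fin.sum_univ_three, rAct, row, tab, ext8, Pi.single_apply,
      Matrix.vecHead, Matrix.vecTail] <;> ring

theorem gen_out {r : ℕ} (hr : ¬ r < 12) (t : F) : gen r t = 1 := by
  match r, hr with
  | 0, h | 1, h | 2, h | 3, h | 4, h | 5, h | 6, h | 7, h | 8, h | 9, h | 10, h | 11, h => omega
  | _ + 12, _ => rfl

theorem rAct_congr (r : ℕ) (t : F) {x y : ℕ → F} (h : ∀ k < 8, x k = y k) (hx : ∀ k, 8 ≤ k → x k = y k) (i : ℕ) :
    rAct r t x i = rAct r t y i := by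
  rw [show x = y from funext fun k => (Nat.lt_or_ge k 8).elim (h k) (hx k)]

theorem rAct_out (r : ℕ) (t : F) (x : ℕ → F) {i : ℕ} (hi : 8 ≤ i) : rAct r t x i = 0 := by
  rw [rAct, row_out hi]; rfl

theorem app_word : ∀ (w : List (ℕ × F)), (∀ p ∈ w, p.1 < 12) → ∀ (x : Fin 8 → F) (i : ℕ),
    ext8 (app (w.map fun p => gen p.1 p.2).prod x) i = rWord w (ext8 x) i
  | [], _, x, i => by rw [List.map_nil, List.prod_nil, app_one]; rfl
  | p :: w, hw, x, i => by
    have hrec : ext8 (app (w.map fun p => gen p.1 p.2).prod x) = rWord w (ext8 x) :=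
      funext (app_word w (fun q hq => hw q (List.mem_cons_of_mem _ hq)) x)
    rw [List.map_cons, List.prod_cons, app_mul]
    show _ = rAct p.1 p.2 (rWord w (ext8 x)) i
    rw [← hrec]
    rcases Nat.lt_or_ge i 8 with hi | hi
    · exact (dif_pos hi).trans (app_gen (hw p List.mem_cons_self) _ _ ⟨i, hi⟩)
    · rw [ext8, dif_neg (not_lt.2 hi), rAct_out _ _ _ hi]

theorem ext8_single (j : Fin 8) : ext8 (Pi.single j (1 : F)) = fun k => if k = j.val then 1 else 0 := by
  funext k
  rw [ext8]
  rcases Nat.lt_or_ge k 8 with hk | hk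
  · rw [dif_pos hk, Pi.single_apply]
    by_cases h : k = j.val <;> simp [Fin.ext_iff, h]
  · rw [dif_neg (not_lt.2 hk), if_neg (by omega)]

theorem gl_ext_single {g h : GL (Fin 8) F} (H : ∀ j i : Fin 8, app g (Pi.single j 1) i = app h (Pi.single j 1) i) :
    g = h := by
  refine gl_ext fun x => ?_
  have : x = ∑ j, x j • (Pi.single j 1 : Fin 8 → F) := by
    funext i; simp [Finset.sum_apply, Pi.single_apply]
  rw [this]
  simp only [app, map_sum, map_smul]
  exact Finset.sum_congr rfl fun j _ => congrArg _ (funext (H j))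

theorem prod_eq_of_sameB {w w' : List (ℕ × ((ℕ × ℕ) × ℤ))} (h : sameB w w' = true)
    (hw : ∀ p ∈ w, p.1 < 12) (hw' : ∀ p ∈ w', p.1 < 12) (t u : F) :
    ((w.map fun p => (p.1, evM t u p.2)).map fun p => gen p.1 p.2).prod =
      ((w'.map fun p => (p.1, evM t u p.2)).map fun p => gen p.1 p.2).prod := by
  refine gl_ext_single fun j i => ?_
  have e : ∀ v : List (ℕ × ((ℕ × ℕ) × ℤ)), (∀ p ∈ v, p.1 < 12) →
      app ((v.map fun p => (p.1, evM t u p.2)).map fun p => gen p.1 p.2).prod (Pi.single j 1) i =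
        rWord (v.map fun p => (p.1, evM t u p.2)) (fun k => if k = j.val then 1 else 0) i := by
    intro v hv
    rw [← ext8_single, ← app_word _ (fun p hp => by
      obtain ⟨c, hc, rfl⟩ := List.mem_map.1 hp
      exact hv c hc), ext8, dif_pos i.2]
  rw [e w hw, e w' hw']
  exact rWord_eq_of_sameB h t u i.2 j.2

theorem gen_add {r : ℕ} (hr : r < 12) (a b : F) : gen r a * gen r b = gen r (a + b) := by
  refine gl_ext_single fun j i => ?_
  have h2 := app_word [(r, a), (r, b)] (by simp [hr]) (Pi.single j 1) i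
  simp only [List.map_cons, List.map_nil, List.prod_cons, List.prod_nil, mul_one] at h2
  rw [ext8, dif_pos i.2] at h2
  rw [h2, app_gen hr, ext8_single]
  simp only [rWord]
  interval_cases r <;> fin_cases i <;> simp [rAct, row, tab] <;> fin_cases j <;> simp <;> ring

theorem gen_inv {r : ℕ} (hr : r < 12) (a : F) : (gen r a)⁻¹ = gen r (-a) := by
  refine inv_eq_of_mul_eq_one_right ?_
  rw [gen_add hr, add_neg_cancel]
  have := gen_add (F := F) hr 0 0
  rw [add_zero] at this
  exact mul_eq_left.1 this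

theorem gen_comm {r s : ℕ} (hr : r < 12) (hs : s < 12) (h1 : s ≠ r) (h2 : s ≠ chevG2.neg r) (t u : F) :
    (gen s u)⁻¹ * (gen r t)⁻¹ * gen s u * gen r t =
      ((chevG2.commWord F r s t u).map fun p => gen p.1 p.2).prod := by
  have hterm : ∀ r s : Fin 12, ∀ c ∈ chevG2.commTerms r s, c.1 < 12 := by decide +kernel
  have h := prod_eq_of_sameB (comm_ok ⟨r, hr⟩ ⟨s, hs⟩ h1 h2) (by simp [hr, hs]) (by
    intro p hp
    obtain ⟨c, hc, rfl⟩ := List.mem_map.1 hp
    exact hterm ⟨r, hr⟩ ⟨s, hs⟩ c hc) t u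
  rw [gen_inv hr, gen_inv hs]
  simp only [List.map_cons, List.map_nil, List.prod_cons, List.prod_nil, mul_one, List.map_map] at h
  simp only [evM, Int.cast_neg, Int.cast_one, pow_zero, pow_one, mul_one, one_mul, neg_mul] at h
  rw [mul_assoc, mul_assoc]
  refine h.trans ?_
  rw [ChevalleyDatum.commWord, List.map_map]
  refine congrArg List.prod (List.map_congr_left fun c _ => ?_)
  simp only [Function.comp_apply, evM, Int.cast_mul, Int.cast_pow, Int.cast_neg, Int.cast_one]
  congr 1
  rw [neg_pow t]; ring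

theorem lift_stX {M : Type*} [Group M] (f : ℕ → F → M) {r : ℕ} (hr : r < chevG2.nroots) (t : F) :
    FreeGroup.lift (fun p : Fin chevG2.nroots × F => f p.1 p.2) (chevG2.stX r t) = f r t := by
  rw [ChevalleyDatum.stX, dif_pos hr, FreeGroup.lift_apply_of]

theorem lift_stWord {M : Type*} [Group M] (f : ℕ → F → M)
    (hout : ∀ r t, ¬ r < chevG2.nroots → f r t = 1) (w : List (ℕ × F)) :
    FreeGroup.lift (fun p : Fin chevG2.nroots × F => f p.1 p.2) (chevG2.stWord w) =
      (w.map fun p => f p.1 p.2).prod := by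
  rw [ChevalleyDatum.stWord, map_list_prod, List.map_map]
  refine congrArg List.prod (List.map_congr_left fun p _ => ?_)
  by_cases hr : p.1 < chevG2.nroots
  · exact lift_stX f hr _
  · simp [ChevalleyDatum.stX, hr, hout _ _ hr]

/-- The representation of the presented group. -/
noncomputable def rep (F : Type*) [Field F] : chevG2.SteinbergCover F →* GL (Fin 8) F :=
  PresentedGroup.toGroup (f := fun p : Fin chevG2.nroots × F => gen p.1 p.2) <| by
    rintro g (⟨r, a, b, hr, rfl⟩ | ⟨r, s, t, u, hr, hs, h1, h2, rfl⟩)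
    · simp only [map_mul, map_inv, lift_stX gen hr]
      rw [mul_inv_eq_one]
      exact gen_add hr a b
    · simp only [map_mul, map_inv, lift_stX gen hr, lift_stX gen hs,
        lift_stWord gen (fun r t h => gen_out (fun h' => h h') t)]
      rw [mul_inv_eq_one]
      exact gen_comm hr hs h1 h2 t u

theorem rep_mem (x : chevG2.SteinbergCover F) : rep F x ∈ Lie.G2 F := by
  have h : Subgroup.closure (Set.range (PresentedGroup.of (rels := chevG2.steinbergRelsAB F))) ≤
      (Lie.G2 F).comap (rep F) := by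
    rw [Subgroup.closure_le]
    rintro _ ⟨p, rfl⟩
    show rep F (PresentedGroup.of p) ∈ Lie.G2 F
    rw [rep, PresentedGroup.toGroup.of]
    exact gen_mem _ _
  exact h (by rw [PresentedGroup.closure_range_of]; exact Subgroup.mem_top x)

end Cfsg.Agent.G2Iso
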