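import Cfsg.Prelude.Def_ChevG2
import Cfsg.Prelude.Def_ChevStructure
import Mathlib.Tactic.Ring
import Mathlib.Algebra.BigOperators.Group.List.Lemmas
import Mathlib.Data.Fin.VecNotation

/-!
Root elements of `G₂` on the eight dimensional algebra: a table of coefficients, and a kernel
check of Steinberg's relators with polynomial parameters.
-/

set_option autoImplicit false

namespace Cfsg.Agent.G2Iso

/-- For a root and a row, the list of (column, coefficient, exponent of the parameter). -/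
def tab : List (List (List (ℕ × ℤ × ℕ))) := [
  [[(0, 1, 0)], [(1, 1, 0)], [(2, 1, 0)], [(2, 1, 1), (3, 1, 0)], [(4, 1, 0)], [(5, 1, 0), (6, -1, 1)], [(6, 1, 0)], [(7, 1, 0)]],
  [[(0, 1, 0)], [(1, 1, 0)], [(2, 1, 0)], [(1, 1, 1), (3, 1, 0)], [(4, 1, 0), (6, -1, 1)], [(5, 1, 0)], [(6, 1, 0)], [(7, 1, 0)]],
  [[(0, 1, 0), (6, -1, 1)], [(1, 1, 0)], [(2, 1, 0)], [(0, 1, 1), (3, 1, 0), (6, -1, 2), (7, -1, 1)], [(2, -1, 1), (4, 1, 0)], [(1, 1, 1), (5, 1, 0)], [(6, 1, 0)], [(6, 1, 1), (7, 1, 0)]],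
  [[(0, 1, 0), (2, 1, 1)], [(1, 1, 0), (6, -1, 1)], [(2, 1, 0)], [(3, 1, 0), (4, 1, 1)], [(4, 1, 0)], [(0, -1, 1), (2, -1, 2), (5, 1, 0), (7, 1, 1)], [(6, 1, 0)], [(2, -1, 1), (7, 1, 0)]],
  [[(0, 1, 0), (1, 1, 1)], [(1, 1, 0)], [(2, 1, 0), (6, 1, 1)], [(3, 1, 0), (5, -1, 1)], [(0, -1, 1), (1, -1, 2), (4, 1, 0), (7, 1, 1)], [(5, 1, 0)], [(6, 1, 0)], [(1, -1, 1), (7, 1, 0)]],
  [[(0, 1, 0)], [(1, 1, 0), (2, 1, 1)], [(2, 1, 0)], [(3, 1, 0)], [(4, 1, 0)], [(4, -1, 1), (5, 1, 0)], [(6, 1, 0)], [(7, 1, 0)]],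
  [[(0, 1, 0)], [(1, 1, 0)], [(1, 1, 1), (2, 1, 0)], [(3, 1, 0)], [(4, 1, 0), (5, -1, 1)], [(5, 1, 0)], [(6, 1, 0)], [(7, 1, 0)]],
  [[(0, 1, 0), (4, -1, 1)], [(0, 1, 1), (1, 1, 0), (4, -1, 2), (7, -1, 1)], [(2, 1, 0)], [(3, 1, 0)], [(4, 1, 0)], [(3, -1, 1), (5, 1, 0)], [(2, 1, 1), (6, 1, 0)], [(4, 1, 1), (7, 1, 0)]],
  [[(0, 1, 0), (5, -1, 1)], [(1, 1, 0)], [(0, 1, 1), (2, 1, 0), (5, -1, 2), (7, -1, 1)], [(3, 1, 0)], [(3, 1, 1), (4, 1, 0)], [(5, 1, 0)], [(1, -1, 1), (6, 1, 0)], [(5, 1, 1), (7, 1, 0)]],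
  [[(0, 1, 0), (3, 1, 1)], [(1, 1, 0), (5, 1, 1)], [(2, 1, 0), (4, -1, 1)], [(3, 1, 0)], [(4, 1, 0)], [(5, 1, 0)], [(0, -1, 1), (3, -1, 2), (6, 1, 0), (7, 1, 1)], [(3, -1, 1), (7, 1, 0)]],
  [[(0, 1, 0)], [(1, 1, 0), (3, 1, 1)], [(2, 1, 0)], [(3, 1, 0)], [(4, 1, 0)], [(5, 1, 0)], [(4, -1, 1), (6, 1, 0)], [(7, 1, 0)]],
  [[(0, 1, 0)], [(1, 1, 0)], [(2, 1, 0), (3, 1, 1)], [(3, 1, 0)], [(4, 1, 0)], [(5, 1, 0)], [(5, -1, 1), (6, 1, 0)], [(7, 1, 0)]]]

/-- A row of the table. -/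
def row (r i : ℕ) : List (ℕ × ℤ × ℕ) := (tab.getD r []).getD i []

/-- Polynomials in two variables: lists of (exponent, exponent, coefficient). -/
abbrev P2 := List ((ℕ × ℕ) × ℤ)

/-- Insert a monomial. -/
def ins (m : (ℕ × ℕ) × ℤ) : P2 → P2
  | [] => if m.2 = 0 then [] else [m]
  | a :: l => if a.1 = m.1 then (if a.2 + m.2 = 0 then l else (a.1, a.2 + m.2) :: l) else a :: ins m l

/-- Sum. -/
def add (p q : P2) : P2 := p.foldr ins q

/-- Product by a monomial. -/
def smul (m : (ℕ × ℕ) × ℤ) (p : P2) : P2 := p.map fun a => ((m.1.1 + a.1.1, m.1.2 + a.1.2), m.2 * a.2)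

/-- A monomial raised to a power. -/
def mpow (m : (ℕ × ℕ) × ℤ) (d : ℕ) : (ℕ × ℕ) × ℤ := ((d * m.1.1, d * m.1.2), m.2 ^ d)

section Eval

variable {R : Type*} [CommRing R] (t u : R)

/-- Evaluation of a monomial. -/
def evM (m : (ℕ × ℕ) × ℤ) : R := (m.2 : R) * t ^ m.1.1 * u ^ m.1.2

/-- Evaluation. -/
def ev (p : P2) : R := (p.map (evM t u)).sum

theorem ev_ins (m : (ℕ × ℕ) × ℤ) : ∀ p : P2, ev t u (ins m p) = evM t u m + ev t u p
  | [] => by
    rw [ins]; split_ifs with h <;> simp [ev, evM, h]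
  | a :: l => by
    rw [ins]
    split_ifs with h1 h2
    · have : ((a.2 : R) + (m.2 : R)) = 0 := by rw [← Int.cast_add, h2, Int.cast_zero]
      simp only [ev, evM, List.map_cons, List.sum_cons, h1]
      linear_combination -(t ^ m.1.1 * u ^ m.1.2) * this
    · simp only [ev, evM, List.map_cons, List.sum_cons, h1, Int.cast_add]; ring
    · have := ev_ins m l
      simp only [ev, List.map_cons, List.sum_cons] at this ⊢
      rw [this]; ring

theorem ev_add : ∀ p q : P2, ev t u (add p q) = ev t u p + ev t u q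
  | [], q => by simp [add, ev]
  | a :: l, q => by
    show ev t u (ins a (add l q)) = _
    rw [ev_ins, ev_add l q]
    simp only [ev, List.map_cons, List.sum_cons]; ring

theorem ev_smul (m : (ℕ × ℕ) × ℤ) : ∀ p : P2, ev t u (smul m p) = evM t u m * ev t u p
  | [] => by simp [smul, ev]
  | a :: l => by
    have := ev_smul m l
    simp only [smul, ev, List.map_cons, List.sum_cons] at this ⊢
    rw [this]; simp only [evM, Int.cast_mul, pow_add]; ring

theorem evM_mpow (m : (ℕ × ℕ) × ℤ) (d : ℕ) : evM t u (mpow m d) = evM t u m ^ d := by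
  simp only [evM, mpow, Int.cast_pow, mul_pow, ← pow_mul]
  rw [mul_comm m.1.1 d, mul_comm m.1.2 d]

/-- The action of a root element on a vector, over a ring. -/
def rAct (r : ℕ) (t : R) (x : ℕ → R) (i : ℕ) : R := ((row r i).map fun e => (e.2.1 : R) * t ^ e.2.2 * x e.1).sum

/-- The action of a word. -/
def rWord : List (ℕ × R) → (ℕ → R) → ℕ → R
  | [], x => x
  | p :: w, x => rAct p.1 p.2 (rWord w x)

end Eval

/-- One entry of the action on polynomial vectors. -/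
def pEntry (r : ℕ) (m : (ℕ × ℕ) × ℤ) (x : List P2) (i : ℕ) : P2 :=
  (row r i).foldr (fun e acc => add (smul ((mpow m e.2.2).1, e.2.1 * (mpow m e.2.2).2) (x.getD e.1 [])) acc) []

/-- The action of a root element on polynomial vectors. -/
def pAct (r : ℕ) (m : (ℕ × ℕ) × ℤ) (x : List P2) : List P2 := (List.range 8).map (pEntry r m x)

/-- The action of a word on polynomial vectors. -/
def pWord : List (ℕ × ((ℕ × ℕ) × ℤ)) → List P2 → List P2
  | [], x => x
  | p :: w, x => pAct p.1 p.2 (pWord w x)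

/-- A basis vector. -/
def pBas (j : ℕ) : List P2 := (List.range 8).map fun i => if i = j then [((0, 0), 1)] else []

section Eval

variable {R : Type*} [CommRing R] (t u : R)

theorem ev_pEntry (r : ℕ) (m : (ℕ × ℕ) × ℤ) (x : List P2) (i : ℕ) :
    ev t u (pEntry r m x i) = rAct r (evM t u m) (fun k => ev t u (x.getD k [])) i := by
  rw [pEntry, rAct]
  induction row r i with
  | nil => rfl
  | cons e l ih =>
    rw [List.foldr_cons, ev_add, ev_smul, ih, List.map_cons, List.sum_cons, ← evM_mpow t u m]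
    simp only [evM, Int.cast_mul]; ring

theorem row_out {r i : ℕ} (hi : 8 ≤ i) : row r i = [] := by
  unfold row
  rw [List.getD_eq_default _ _ ?_]
  rcases Nat.lt_or_ge r tab.length with h | h
  · have hall : ∀ l ∈ tab, l.length = 8 := by decide +kernel
    rw [List.getD_eq_getElem _ _ h]
    exact (hall _ (List.getElem_mem h)).le.trans hi
  · rw [List.getD_eq_default _ _ h]; exact Nat.zero_le _

theorem ev_pAct (r : ℕ) (m : (ℕ × ℕ) × ℤ) (x : List P2) (i : ℕ) :
    ev t u ((pAct r m x).getD i []) = rAct r (evM t u m) (fun k => ev t u (x.getD k [])) i := by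
  rcases Nat.lt_or_ge i 8 with hi | hi
  · rw [pAct, List.getD_eq_getElem _ _ (by simpa using hi)]
    simpa using ev_pEntry t u r m x i
  · rw [List.getD_eq_default _ _ (by simpa [pAct] using hi), rAct, row_out hi]; rfl

theorem ev_pWord : ∀ (w : List (ℕ × ((ℕ × ℕ) × ℤ))) (x : List P2) (i : ℕ),
    ev t u ((pWord w x).getD i []) =
      rWord (w.map fun p => (p.1, evM t u p.2)) (fun k => ev t u (x.getD k [])) i
  | [], x, i => rfl
  | p :: w, x, i => by
    show ev t u ((pAct p.1 p.2 (pWord w x)).getD i []) = _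
    rw [ev_pAct, show (fun k => ev t u ((pWord w x).getD k [])) = _ from funext (ev_pWord w x)]
    rfl

theorem ev_pBas {j : ℕ} (hj : j < 8) (i : ℕ) :
    ev t u ((pBas j).getD i []) = if i = j then 1 else 0 := by
  rcases Nat.lt_or_ge i 8 with hi | hi
  · rw [pBas, List.getD_eq_getElem _ _ (by simpa using hi)]
    by_cases h : i = j <;> simp [h, ev, evM]
  · rw [List.getD_eq_default _ _ (by simpa [pBas] using hi), if_neg (by omega)]; rfl

end Eval

/-- Two words have the same action, as polynomials. -/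
def sameB (w w' : List (ℕ × ((ℕ × ℕ) × ℤ))) : Bool :=
  (List.range 8).all fun j =>
    let a := pWord w (pBas j)
    let b := pWord w' (pBas j)
    (List.range 8).all fun i => add (a.getD i []) (smul ((0, 0), -1) (b.getD i [])) == []

theorem rWord_eq_of_sameB {w w' : List (ℕ × ((ℕ × ℕ) × ℤ))} (h : sameB w w' = true) {R : Type*} [CommRing R]
    (t u : R) {i j : ℕ} (hi : i < 8) (hj : j < 8) :
    rWord (w.map fun p => (p.1, evM t u p.2)) (fun k => if k = j then 1 else 0) i =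
      rWord (w'.map fun p => (p.1, evM t u p.2)) (fun k => if k = j then 1 else 0) i := by
  simp only [sameB, List.all_eq_true, List.mem_range, beq_iff_eq] at h
  have h0 := congrArg (ev t u) (h j hj i hi)
  rw [ev_add, ev_smul, ev_pWord, ev_pWord, funext (ev_pBas t u hj)] at h0
  simp only [evM, ev, List.map_nil, List.sum_nil, Int.cast_neg, Int.cast_one, pow_zero, mul_one, neg_one_mul] at h0
  exact eq_of_add_neg_eq_zero h0

open Cfsg.Lie in
/-- The words on the two sides of the commutator formula. -/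
def commOK (r s : ℕ) : Bool :=
  sameB [(s, ((0, 1), -1)), (r, ((1, 0), -1)), (s, ((0, 1), 1)), (r, ((1, 0), 1))]
    ((chevG2.commTerms r s).map fun c => (c.1, ((c.2.2.1, c.2.2.2), c.2.1 * (-1) ^ c.2.2.1)))

open Cfsg.Lie in
theorem comm_ok : ∀ r s : Fin 12, (s : ℕ) ≠ (r : ℕ) → (s : ℕ) ≠ chevG2.neg r → commOK r s = true := by
  decide +kernel

end Cfsg.Agent.G2Iso
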